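import Groth.Agent.CompactPull.Germ
import Groth.Agent.DescSec.ClosedStalk

/-!
Direct image along a closed embedding.
-/

set_option autoImplicit false
set_option linter.style.haveILetI false
set_option backward.isDefEq.respectTransparency false
set_option backward.isDefEq.respectTransparency.types false

universe u

open CategoryTheory CategoryTheory.Limits Opposite TopologicalSpace

namespace Groth.Agent.CohTopBits

variable {Z X : TopCat.{u}} (i : Z ⟶ X) (hi : Topology.IsClosedEmbedding i)

/-- The complement. -/
abbrev compl' : Opens X := ⟨(Set.range i)ᶜ, hi.isClosed_range.isOpen_compl⟩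

theorem isZero_push_sections (G : CohTop.Ab Z) (W : Opens X) (hW : W ≤ compl' i hi) :
    IsZero (((CohTop.push i).obj G).obj.obj (op W)) := by
  have he : (Opens.map i).obj W = ⊥ := bot_unique fun z hz => (hW hz ⟨z, rfl⟩).elim
  change IsZero (G.obj.obj (op ((Opens.map i).obj W)))
  rw [he]
  exact (TopCat.Sheaf.isTerminalOfEmpty _).isZero

include hi in
theorem closed_push_properties :
    PreservesFiniteColimits (CohTop.push i) ∧ (CohTop.push i).Full ∧ (CohTop.push i).Faithful ∧
      (∀ F : CohTop.Ab X, (CohTop.push i).essImage F ↔ ∀ x : X, x ∉ Set.range i → IsZero (CohTop.stalk F x)) ∧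
      Nonempty (CohTop.push i ⋙ CohTop.pull i ≅ 𝟭 (CohTop.Ab Z)) := by
  let adj := TopCat.Sheaf.pullbackPushforwardAdjunction AddCommGrpCat.{u} i
  have hind := hi.isEmbedding.isInducing
  haveI := ClosedPush.isIso_counit (f := i) hind
  haveI : (CohTop.push i).Additive := { map_add := rfl }
  haveI : (CohTop.push i).PreservesEpimorphisms := ⟨fun {G H} φ hφ => DescSec.epi_of_stk _ fun x => by
    by_cases hx : x ∈ Set.range i
    · obtain ⟨z, rfl⟩ := hx
      haveI := hφ
      haveI := TopCat.Presheaf.stalkPushforward.stalkPushforward_iso_of_isInducing AddCommGrpCat.{u} hind G.obj z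
      haveI := TopCat.Presheaf.stalkPushforward.stalkPushforward_iso_of_isInducing AddCommGrpCat.{u} hind H.obj z
      have hsq : (DescSec.stA (i z)).map ((CohTop.push i).map φ) ≫ TopCat.Presheaf.stalkPushforward AddCommGrpCat.{u} i H.obj z =
          TopCat.Presheaf.stalkPushforward AddCommGrpCat.{u} i G.obj z ≫ (DescSec.stA z).map φ := by
        refine TopCat.Presheaf.stalk_hom_ext _ fun U hU => ConcreteCategory.hom_ext _ _ fun s => ?_
        simp only [ConcreteCategory.comp_apply]
        erw [TopCat.Presheaf.stalkFunctor_map_germ_apply]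
        refine (ConcreteCategory.congr_hom (TopCat.Presheaf.stalkPushforward_germ AddCommGrpCat.{u} i H.obj U z hU) _).trans ?_
        refine Eq.trans ?_ (congrArg _ (ConcreteCategory.congr_hom (TopCat.Presheaf.stalkPushforward_germ AddCommGrpCat.{u} i G.obj U z hU) s)).symm
        exact (TopCat.Presheaf.stalkFunctor_map_germ_apply _ z hU φ.hom s).symm
      haveI : Epi ((DescSec.stA z).map φ) := Functor.map_epi _ _
      haveI : Epi ((DescSec.stA (i z)).map ((CohTop.push i).map φ) ≫ TopCat.Presheaf.stalkPushforward AddCommGrpCat.{u} i H.obj z) := by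
        rw [hsq]
        exact epi_comp _ _
      have h := (AddCommGrpCat.epi_iff_surjective _).1 ‹_›
      intro c
      obtain ⟨a, ha⟩ := h (TopCat.Presheaf.stalkPushforward AddCommGrpCat.{u} i H.obj z c)
      exact ⟨a, (ConcreteCategory.bijective_of_isIso
        (TopCat.Presheaf.stalkPushforward AddCommGrpCat.{u} i H.obj z)).1 ha⟩
    · intro c
      haveI : Subsingleton ((DescSec.stA x).obj ((CohTop.push i).obj H)) := AddCommGrpCat.subsingleton_of_isZero
        (ClosedPush.isZero_stalk_of_isZero_sections (F := (CohTop.push i).obj H) (U := compl' i hi)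
          (fun W hW => isZero_push_sections i hi H W hW) (x := x) hx)
      exact ⟨0, Subsingleton.elim _ _⟩⟩
  haveI : PreservesLimitsOfSize.{0, 0} (CohTop.push i) := adj.rightAdjoint_preservesLimits
  haveI : (CohTop.push i).PreservesHomology := Functor.preservesHomology_of_preservesEpis_and_kernels _
  refine ⟨Functor.preservesFiniteColimits_of_preservesHomology _, ClosedPush.push_full hind,
    ClosedPush.push_faithful hind, fun F => ⟨fun ⟨G, ⟨e⟩⟩ x hx => ?_, fun h => ?_⟩, ⟨asIso adj.counit⟩⟩
  · refine IsZero.of_iso ?_ ((ClosedPush.stk x).mapIso e).symm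
    exact ClosedPush.isZero_stalk_of_isZero_sections (F := (CohTop.push i).obj G) (U := compl' i hi)
      (fun W hW => isZero_push_sections i hi G W hW) hx
  · haveI : IsIso (adj.unit.app F) := by
      refine ClosedPush.isIso_unit_of_supported hind F (compl' i hi) (fun x => Classical.em _) (fun z hz => hz ⟨z, rfl⟩) fun W hW => ?_
      haveI : Subsingleton (F.obj.obj (op W)) := ⟨fun a b => TopCat.Presheaf.section_ext F W a b fun x hx => by
        haveI := AddCommGrpCat.subsingleton_of_isZero (h x (hW hx))
        exact Subsingleton.elim _ _⟩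
      exact AddCommGrpCat.isZero_of_subsingleton _
    exact ⟨(CohTop.pull i).obj F, ⟨(asIso (adj.unit.app F)).symm⟩⟩

end Groth.Agent.CohTopBits
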