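import Groth.Prelude.Def_CohTop
import Groth.Agent.CohVanish.LES

/-!
Positive degree classes vanish on a covering.
-/

set_option autoImplicit false
set_option backward.isDefEq.respectTransparency false

universe u

open CategoryTheory TopologicalSpace

namespace Groth.Agent.CohTopBits

theorem exists_kill_covering {X : TopCat.{u}} (F : CohTop.Ab X) (U : Opens X) (n : ℕ)
    (ξ : CohTop.HU F (n + 1) U) :
    ∃ (ι : Type u) (V : ι → Opens X) (hV : ∀ i, V i ≤ U), iSup V = U ∧
      ∀ i, CohTop.res F (n + 1) (hV i) ξ = 0 := by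
  have h := fun x : {x : X // x ∈ U} => CohVanish.exists_eRes_eq_zero F U n ξ x.1 x.2
  choose W hW hxW hz using h
  exact ⟨_, W, hW, le_antisymm (iSup_le hW) fun x hx => Opens.mem_iSup.2 ⟨⟨x, hx⟩, hxW _⟩, hz⟩

end Groth.Agent.CohTopBits
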